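import Groth.Agent.LFFrame.Basic
import Groth.Prelude.Def_LinSer
import Groth.Prelude.Def_CohB1
import Mathlib.AlgebraicGeometry.Stalk
import Mathlib.LinearAlgebra.Dimension.Constructions
import Mathlib.LinearAlgebra.FiniteDimensional.Lemmas

/-! # Values of sections of invertible modules at rational points -/

set_option autoImplicit false
set_option backward.isDefEq.respectTransparency false
set_option backward.isDefEq.respectTransparency.types false

universe u

open CategoryTheory CategoryTheory.Limits AlgebraicGeometry Opposite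
open Groth.Agent.PullStalk.Sky Groth.Agent.LFFrame

namespace Groth.Agent.LinSerLib

variable {k : Type u} [Field k] {X : Scheme.{u}} [X.Over (Spec (CommRingCat.of k))]

/-- The global section at which to evaluate, as a morphism from the structure sheaf. -/
noncomputable def sectionHom (L : X.Modules) (σ : LinSer.Sect X L) : Coh.structureModule X ⟶ L :=
  (L.unitHomEquiv).symm (PresheafOfModules.sectionsMk
    (fun U => L.val.map (homOfLE (le_top (a := U.unop))).op σ)
    (fun U V f => by
      rw [← PresheafOfModules.map_comp_apply]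
      rfl))

theorem sectionHom_one (L : X.Modules) (σ : LinSer.Sect X L) (U : X.Opens) :
    (sectionHom L σ).app U (1 : Γ(X, U)) = L.presheaf.map (homOfLE (le_top (a := U))).op σ :=
  congrArg (fun t => t.val (op U)) ((L.unitHomEquiv).apply_symm_apply _)

theorem sectionHom_ne_zero (L : X.Modules) (σ : LinSer.Sect X L) (h : σ ≠ 0) :
    sectionHom L σ ≠ 0 := by
  intro h0
  apply h
  have h1 := sectionHom_one L σ ⊤
  rw [h0] at h1
  have h2 : L.presheaf.map (homOfLE (le_top (a := (⊤ : X.Opens)))).op σ = σ := by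
    show (L.presheaf.map (𝟙 (op (⊤ : X.Opens)))) σ = σ
    rw [CategoryTheory.Functor.map_id]
    rfl
  rw [h2] at h1
  exact h1.symm

/-- A rational point gives a character of the local ring at its image. -/
noncomputable def chi (p : Spec (CommRingCat.of k) ⟶ X) :
    X.presheaf.stalk (p (IsLocalRing.closedPoint k)) →+* k :=
  (Scheme.stalkClosedPointTo p).hom

theorem chi_global (p : Spec (CommRingCat.of k) ⟶ X) (hp : p ≫ (X ↘ Spec (CommRingCat.of k)) = 𝟙 _)
    (c : k) : chi p (X.presheaf.germ ⊤ _ trivial (Coh.toGlobal (X ↘ Spec (CommRingCat.of k)) c)) = c := by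
  show (X.presheaf.germ ⊤ (p (IsLocalRing.closedPoint k)) trivial ≫ Scheme.stalkClosedPointTo p).hom
    ((X ↘ Spec (CommRingCat.of k)).appTop ((Scheme.ΓSpecIso (CommRingCat.of k)).inv c)) = c
  rw [Scheme.germ_stalkClosedPointTo]
  have h1 : p.appTop ((X ↘ Spec (CommRingCat.of k)).appTop ((Scheme.ΓSpecIso (CommRingCat.of k)).inv c))
      = (Scheme.ΓSpecIso (CommRingCat.of k)).inv c := by
    show ((X ↘ Spec (CommRingCat.of k)).appTop ≫ p.appTop).hom _ = _
    rw [← Scheme.Hom.comp_appTop, hp]
    rfl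
  simp only [CommRingCat.hom_comp, RingHom.comp_apply]
  erw [h1]
  simp

theorem exists_smul_eq_of_isIso (L : X.Modules) (φ : Coh.structureModule X ⟶ L) (σ : LinSer.Sect X L)
    (hφ : ∀ V : X.Opens, φ.app V (1 : Γ(X, V)) = L.presheaf.map (homOfLE (le_top (a := V))).op σ)
    (U : X.Opens) [IsIso ((Scheme.Modules.restrictFunctor U.ι).map φ)] (x : X) (hxU : x ∈ U)
    (m : L.presheaf.stalk x) :
    ∃ a : X.presheaf.stalk x, m = a • germM L ⊤ x trivial σ := by
  obtain ⟨W, hxW, t, rfl⟩ := exists_germM_eq L x m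
  obtain ⟨V, hVW, hxV, hbij⟩ : ∃ (V : X.Opens) (_ : V ≤ W) (_ : x ∈ V), Function.Bijective (φ.app V) := by
    refine ⟨U.ι ''ᵁ (U.ι ⁻¹ᵁ W), ?_, ?_, ?_⟩
    · rw [Scheme.Hom.image_preimage_eq_opensRange_inf]
      exact inf_le_right
    · rw [Scheme.Hom.image_preimage_eq_opensRange_inf, Scheme.Opens.opensRange_ι]
      exact ⟨hxU, hxW⟩
    · have h1 := (Scheme.Modules.Hom.isIso_iff_isIso_app (φ := (Scheme.Modules.restrictFunctor U.ι).map φ)).mp
        inferInstance (U.ι ⁻¹ᵁ W)
      exact (ConcreteCategory.isIso_iff_bijective _).mp h1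
  obtain ⟨a, ha⟩ := hbij.2 (L.presheaf.map (homOfLE hVW).op t)
  let a' : Γ(X, V) := a
  have h2 : φ.app V a = a' • L.presheaf.map (homOfLE (le_top (a := V))).op σ := by
    rw [← hφ]
    refine Eq.trans ?_ (Scheme.Modules.Hom.app_smul φ a' (1 : Γ(X, V)))
    exact congrArg (φ.app V) (mul_one a').symm
  refine ⟨X.presheaf.germ V x hxV a', ?_⟩
  have h3 := congrArg (germM L V x hxV) (h2.symm.trans ha)
  refine (L.presheaf.germ_res_apply (homOfLE hVW) x hxV t).symm.trans (h3.symm.trans ?_)
  refine (germM_smul L _ x hxV _ _).trans ?_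
  congr 1
  exact L.presheaf.germ_res_apply (homOfLE le_top) x hxV σ

/-- If a global section generates near `x` then its germ spans the stalk. -/
theorem exists_smul_eq (L : X.Modules) (σ : LinSer.Sect X L) (x : X)
    (hx : x ∈ CohB1.genLocus L (sectionHom L σ)) (m : L.presheaf.stalk x) :
    ∃ a : X.presheaf.stalk x, m = a • germM L ⊤ x trivial σ := by
  obtain ⟨U, hU, hxU⟩ := TopologicalSpace.Opens.mem_sSup.mp hx
  let U' : X.Opens := U
  have hU' : IsIso ((Scheme.Modules.restrictFunctor (Scheme.Opens.ι U')).map (sectionHom L σ)) := hU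
  exact exists_smul_eq_of_isIso L _ σ (sectionHom_one L σ) U' x hxU m

theorem exists_bijective_stalkComb (L : X.Modules) (hL : PicF.IsInvertible L) (x : X) :
    ∃ (U : X.Opens) (hx : x ∈ U) (e : Fin 1 → Γ(L, U)), Function.Bijective (stalkComb L e x hx) := by
  obtain ⟨U, hx, ⟨φ⟩⟩ := hL x
  obtain ⟨e, he⟩ := exists_isFrame_of_split (M := L) (fun _ : Fin 1 => φ.inv) (fun _ => φ.hom)
    (fun i j => by simp [Subsingleton.elim i j]) (by simp)
  exact ⟨U, hx, e, he.stalkComb_bijective x hx⟩

theorem exists_vanishing (L : X.Modules) (hL : PicF.IsInvertible L)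
    (n : ℕ) (p : Fin n → (Spec (CommRingCat.of k) ⟶ X))
    (hp : ∀ i, p i ≫ (X ↘ Spec (CommRingCat.of k)) = 𝟙 _)
    (t : Fin (n + 1) → LinSer.Sect X L) (ht : LinSer.LinIndep k X L t) :
    ∃ σ : LinSer.Sect X L, σ ≠ 0 ∧
      ∀ i, (p i) (IsLocalRing.closedPoint k) ∉ CohB1.genLocus L (sectionHom L σ) := by
  choose U hU e he using fun i => exists_bijective_stalkComb L hL ((p i) (IsLocalRing.closedPoint k))
  let E := fun i => LinearEquiv.ofBijective (stalkComb L (e i) _ (hU i)) (he i)
  let ψ : ∀ i, L.presheaf.stalk ((p i) (IsLocalRing.closedPoint k)) → k :=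
    fun i m => chi (p i) ((E i).symm m 0)
  have hψadd : ∀ i m m', ψ i (m + m') = ψ i m + ψ i m' := fun i m m' => by
    simp only [ψ, map_add, Pi.add_apply]
  have hψsmul : ∀ i a m, ψ i (a • m) = chi (p i) a * ψ i m := fun i a m => by
    simp only [ψ, map_smul, Pi.smul_apply, smul_eq_mul, map_mul]
  let g : (Fin (n + 1) → k) →ₗ[k] (Fin n → k) :=
    { toFun := fun c i => ∑ j, c j * ψ i (germM L ⊤ _ trivial (t j))
      map_add' := fun c d => by ext i; simp [add_mul, Finset.sum_add_distrib]
      map_smul' := fun r c => by ext i; simp [Finset.mul_sum, mul_assoc] }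
  have hker : g.ker ≠ ⊥ := LinearMap.ker_ne_bot_of_finrank_lt (by simp)
  obtain ⟨c, hc, hc0⟩ := (Submodule.ne_bot_iff _).mp hker
  refine ⟨∑ j, Coh.toGlobal (X ↘ Spec (CommRingCat.of k)) (c j) • t j, fun h => hc0 (ht c h), ?_⟩
  intro i hi
  have hzero : ψ i (germM L ⊤ _ trivial
      (∑ j, Coh.toGlobal (X ↘ Spec (CommRingCat.of k)) (c j) • t j)) = 0 := by
    have h1 : ∀ (s : Finset (Fin (n + 1))), ψ i (germM L ⊤ _ trivial
        (∑ j ∈ s, Coh.toGlobal (X ↘ Spec (CommRingCat.of k)) (c j) • t j)) =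
        ∑ j ∈ s, c j * ψ i (germM L ⊤ _ trivial (t j)) := by
      intro s
      induction s using Finset.induction_on with
      | empty =>
        simp only [Finset.sum_empty]
        show chi (p i) ((E i).symm (L.presheaf.germ ⊤ _ trivial 0) 0) = 0
        rw [map_zero, map_zero, Pi.zero_apply, map_zero]
      | insert a s has ih =>
        rw [Finset.sum_insert has, Finset.sum_insert has, ← ih]
        have h2 := hψadd i (germM L ⊤ _ trivial (Coh.toGlobal (X ↘ Spec (CommRingCat.of k)) (c a) • t a))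
          (germM L ⊤ _ trivial (∑ j ∈ s, Coh.toGlobal (X ↘ Spec (CommRingCat.of k)) (c j) • t j))
        refine Eq.trans (congrArg (ψ i) ?_) (h2.trans ?_)
        · exact map_add (L.presheaf.germ ⊤ _ trivial).hom _ _
        · congr 1
          refine (congrArg (ψ i) (germM_smul L ⊤ _ trivial _ _)).trans ?_
          rw [hψsmul, chi_global (p i) (hp i)]
    exact (h1 Finset.univ).trans (congrFun hc i)
  obtain ⟨a, ha⟩ := exists_smul_eq L _ _ hi (E i (fun _ => 1))
  have h3 := congrArg (ψ i) ha
  rw [hψsmul, hzero, mul_zero] at h3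
  have h4 : ψ i (E i (fun _ => 1)) = 1 := by simp [ψ]
  rw [h4] at h3
  exact one_ne_zero h3

end Groth.Agent.LinSerLib
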